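import Mathlib
import Cfsg.Prelude.Def_EvenType
import Cfsg.Agent.EvenType.StrongP

/-!
# Strongly `p`-embedded subgroups: index and generation criteria (helper998)

* `NoSP p G` : `G` has no strongly `p`-embedded subgroup;
* `index_mod` : `|G : H| ≡ 1 (mod |P|)` for `H` strongly `p`-embedded, `P` a Sylow `p`-subgroup;
* `card_normalizer_dvd` : `|N_G(Q)|` divides `|H|` for every nontrivial `p`-subgroup `Q`;
* `card_dvd_of_noSP` : `|L|` divides `|H|` for every subgroup `L` with `NoSP p L` and `p ∣ |L|`;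
* `eq_top_of_chain` : a generation criterion.
-/

set_option autoImplicit false

namespace Cfsg.Agent.H998.StrP

open Cfsg Subgroup Cfsg.Agent.EvenType.StrongP

/-- `G` has no strongly `p`-embedded subgroup. -/
def NoSP (p : ℕ) (G : Type*) [Group G] : Prop := ∀ H : Subgroup G, ¬ IsStronglyPEmbedded p H

section

variable {G : Type*} [Group G] [Finite G] {p : ℕ} [hp : Fact p.Prime]

/-- Strongly `p`-embedded subgroups are preserved by isomorphisms. -/
theorem map_equiv {K : Type*} [Group K] [Finite K] (e : G ≃* K) {H : Subgroup G} (hH : IsStronglyPEmbedded p H) :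
    IsStronglyPEmbedded p (H.map e.toMonoidHom) := by
  have hN := normIn hH
  have hd := dvd_card hH
  refine of_normIn ?_ ?_ ?_
  · rw [Subgroup.card_map_of_injective e.injective]
    exact hd
  · intro h
    apply hH.2.1
    have h1 : (⊤ : Subgroup G).map e.toMonoidHom = H.map e.toMonoidHom := by
      rw [h]
      exact Subgroup.map_top_of_surjective _ e.surjective
    exact (Subgroup.map_injective e.injective h1).symm
  · intro Q hQ hQH hQ1 y hy
    have h1 : IsPGroup p ↥(Q.comap e.toMonoidHom) := hQ.comap_of_injective _ e.injective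
    have h2 : Q.comap e.toMonoidHom ≤ H := by
      intro x hx
      obtain ⟨z, hz, hzx⟩ := hQH hx
      have : z = x := e.injective hzx
      rwa [← this]
    have h3 : Q.comap e.toMonoidHom ≠ ⊥ := by
      intro h0
      apply hQ1
      rw [eq_bot_iff]
      intro q hq
      obtain ⟨x, rfl⟩ := e.surjective q
      have : x ∈ Q.comap e.toMonoidHom := hq
      rw [h0, Subgroup.mem_bot] at this
      rw [this, map_one]
      exact Subgroup.mem_bot.2 rfl
    obtain ⟨x, rfl⟩ := e.surjective y
    refine ⟨x, hN _ h1 h2 h3 ?_, rfl⟩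
    rw [Subgroup.mem_normalizer_iff] at hy ⊢
    intro z
    have := hy (e z)
    simpa [Subgroup.mem_comap] using this

theorem NoSP.congr {K : Type*} [Group K] [Finite K] (e : G ≃* K) (h : NoSP p K) : NoSP p G :=
  fun H hH => h _ (map_equiv e hH)

theorem conj_mem_iff {H : Subgroup G} (hH : IsStronglyPEmbedded p H) (g : G) :
    IsStronglyPEmbedded p (H.map (MulAut.conj g).toMonoidHom) := map_equiv (MulAut.conj g) hH

/-- The index of a strongly `p`-embedded subgroup is `1` modulo the order of a Sylow `p`-subgroup. -/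
theorem index_mod {H : Subgroup G} (hH : IsStronglyPEmbedded p H) (P : Sylow p G) :
    ∃ k : ℕ, H.index = 1 + k * Nat.card P := by
  classical
  obtain ⟨h1, h2, P₀, hP₀⟩ := hH
  have hH : IsStronglyPEmbedded p H := ⟨h1, h2, P₀, hP₀⟩
  have hPH : (P₀ : Subgroup G) ≤ H := sylow_le h1 hP₀
  have hcard : Nat.card P = Nat.card P₀ := by
    have a := Sylow.card_eq_multiplicity P
    have b := Sylow.card_eq_multiplicity P₀
    exact a.trans b.symm
  rw [hcard]
  -- the action of `P₀` on the cosets different from `H`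
  let α : SubMulAction ↥(P₀ : Subgroup G) (G ⧸ H) :=
    { carrier := {x | x ≠ ((1 : G) : G ⧸ H)}
      smul_mem' := by
        intro c x hx h0
        apply hx
        have h3 : (c⁻¹ : ↥(P₀ : Subgroup G)) • (c • x) = (c⁻¹ : ↥(P₀ : Subgroup G)) • (((1 : G) : G ⧸ H)) :=
          congrArg _ h0
        rw [inv_smul_smul] at h3
        rw [h3]
        change ((((c⁻¹ : ↥(P₀ : Subgroup G)) : G) * 1 : G) : G ⧸ H) = _
        rw [mul_one, QuotientGroup.eq]
        have : ((c : G))⁻¹ ∈ H := H.inv_mem (hPH c.2)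
        simpa using H.inv_mem this }
  have hfree : ∀ b : α, MulAction.stabilizer ↥(P₀ : Subgroup G) b = ⊥ := by
    rintro ⟨b, hb⟩
    obtain ⟨g, rfl⟩ := QuotientGroup.mk_surjective b
    have hg : g ∉ H := by
      intro hg
      apply hb
      rw [QuotientGroup.eq]
      simpa using H.inv_mem hg
    have hnd := inter hH hg
    rw [eq_bot_iff]
    intro c hc
    by_contra hc1
    apply hnd
    have hc' : (c : G) ∈ H ⊓ H.map (MulAut.conj g).toMonoidHom := by
      refine ⟨hPH c.2, ?_⟩
      refine mem_map_conj.2 ?_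
      have h5 : c • (⟨(g : G ⧸ H), hb⟩ : α) = ⟨(g : G ⧸ H), hb⟩ := hc
      have h6 : ((((c : G)) * g : G) : G ⧸ H) = (g : G ⧸ H) := congrArg Subtype.val h5
      rw [eq_comm, QuotientGroup.eq] at h6
      simpa [mul_assoc] using h6
    have h7 : orderOf (c : G) ∣ Nat.card ↥(H ⊓ H.map (MulAut.conj g).toMonoidHom) :=
      Subgroup.orderOf_dvd_natCard _ hc'
    refine dvd_trans ?_ h7
    obtain ⟨n, hn⟩ := (IsPGroup.iff_orderOf.1 P₀.isPGroup') c
    have hn' : orderOf (c : G) = p ^ n := by
      rw [Subgroup.orderOf_coe]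
      exact hn
    rw [hn']
    cases n with
    | zero =>
      exfalso
      apply hc1
      rw [pow_zero, orderOf_eq_one_iff] at hn'
      exact Subgroup.mem_bot.2 (Subtype.ext hn')
    | succ n => exact Dvd.intro_left _ rfl
  have e := MulAction.selfEquivOrbitsQuotientProd hfree
  have h8 : Nat.card α = Nat.card (Quotient (MulAction.orbitRel ↥(P₀ : Subgroup G) α)) * Nat.card P₀ := by
    rw [Nat.card_congr e, Nat.card_prod]
  have h9 : H.index = 1 + Nat.card α := by
    rw [Subgroup.index]
    have h10 : Nat.card (G ⧸ H) = Nat.card (Option α) := by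
      refine Nat.card_congr (Equiv.symm ?_)
      refine Equiv.ofBijective (fun o => match o with
        | none => ((1 : G) : G ⧸ H)
        | some a => (a : G ⧸ H)) ⟨?_, ?_⟩
      · rintro (_ | a) (_ | b) h
        · rfl
        · exact absurd h.symm b.2
        · exact absurd h a.2
        · exact congrArg some (Subtype.ext h)
      · intro x
        by_cases hx : x = ((1 : G) : G ⧸ H)
        · exact ⟨none, hx.symm⟩
        · exact ⟨some ⟨x, hx⟩, rfl⟩
    rw [h10, Finite.card_option, add_comm]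
  exact ⟨_, by rw [h9, h8]⟩

/-- `|N_G(Q)|` divides the order of a strongly `p`-embedded subgroup, for every nontrivial `p`-subgroup `Q`. -/
theorem card_normalizer_dvd {H : Subgroup G} (hH : IsStronglyPEmbedded p H) {Q : Subgroup G} (hQ : IsPGroup p Q)
    (hQ1 : Q ≠ ⊥) : Nat.card ↥(normalizer (Q : Set G)) ∣ Nat.card H := by
  obtain ⟨h1, h2, P₀, hP₀⟩ := hH
  have hH : IsStronglyPEmbedded p H := ⟨h1, h2, P₀, hP₀⟩
  have hPH : (P₀ : Subgroup G) ≤ H := sylow_le h1 hP₀
  obtain ⟨S, hS⟩ := hQ.exists_le_sylow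
  obtain ⟨g, hg⟩ := MulAction.exists_smul_eq G S P₀
  have h3 : Q.map (MulAut.conj g).toMonoidHom ≤ P₀ := by
    rw [← hg, Sylow.coe_subgroup_smul]
    rintro _ ⟨x, hx, rfl⟩
    exact ⟨x, hS hx, rfl⟩
  have h4 : Q.map (MulAut.conj g).toMonoidHom ≠ ⊥ := by
    intro h0
    rw [Subgroup.map_eq_bot_iff_of_injective _ (MulAut.conj g).injective] at h0
    exact hQ1 h0
  have h5 := normIn hH _ (hQ.map _) (h3.trans hPH) h4
  rw [normalizer_map_conj] at h5
  have h6 := card_dvd_of_le h5
  rwa [Subgroup.card_map_of_injective (MulAut.conj g).injective] at h6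

/-- `|L|` divides the order of a strongly `p`-embedded subgroup, for every subgroup `L` of order divisible by `p`
without strongly `p`-embedded subgroup. -/
theorem exists_conj_le_of_noSP {H : Subgroup G} (hH : IsStronglyPEmbedded p H) {L : Subgroup G} (hL : p ∣ Nat.card L)
    (hN : NoSP p L) : ∃ g : G, L.map (MulAut.conj g).toMonoidHom ≤ H := by
  obtain ⟨h1, h2, P₀, hP₀⟩ := hH
  have hH : IsStronglyPEmbedded p H := ⟨h1, h2, P₀, hP₀⟩
  have hPH : (P₀ : Subgroup G) ≤ H := sylow_le h1 hP₀
  obtain ⟨x, hx⟩ := exists_prime_orderOf_dvd_card' (G := L) p hL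
  have hxo : orderOf (x : G) = p := by rw [Subgroup.orderOf_coe]; exact hx
  have hZ : IsPGroup p ↥(zpowers (x : G)) := by
    rw [IsPGroup.iff_card]
    exact ⟨1, by rw [Nat.card_zpowers, hxo, pow_one]⟩
  obtain ⟨S, hS⟩ := hZ.exists_le_sylow
  obtain ⟨g, hg⟩ := MulAction.exists_smul_eq G S P₀
  have hxH : g * x * g⁻¹ ∈ H := by
    apply hPH
    have : (x : G) ∈ (S : Subgroup G) := hS (mem_zpowers _)
    rw [← hg, Sylow.coe_subgroup_smul]
    exact ⟨x, this, rfl⟩
  refine ⟨g, ?_⟩
  by_contra hnot
  -- `M = L ^ g`, `H ∩ M` is strongly `p`-embedded in `M`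
  set M := L.map (MulAut.conj g).toMonoidHom with hM
  have e : L ≃* M := L.equivMapOfInjective _ (MulAut.conj g).injective
  have hNM : NoSP p M := hN.congr e.symm
  refine hNM ((H ⊓ M).subgroupOf M) ?_
  have hNH := normIn hH
  have hcard : Nat.card ((H ⊓ M).subgroupOf M) = Nat.card ↥(H ⊓ M) :=
    Nat.card_congr (Subgroup.subgroupOfEquivOfLe inf_le_right).toEquiv
  refine of_normIn ?_ ?_ ?_
  · rw [hcard]
    have h7 : g * x * g⁻¹ ∈ H ⊓ M := ⟨hxH, ⟨x, x.2, rfl⟩⟩
    have h8 := Subgroup.orderOf_dvd_natCard _ h7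
    have h9 : orderOf (g * (x : G) * g⁻¹) = p := by
      rw [← hxo]
      exact orderOf_injective (MulAut.conj g).toMonoidHom (MulAut.conj g).injective (x : G)
    rwa [h9] at h8
  · intro h
    rw [subgroupOf_eq_top] at h
    exact hnot (h.trans inf_le_left)
  · intro Q hQ hQX hQ1 y hy
    have h1 : IsPGroup p ↥(Q.map M.subtype) := hQ.map _
    have h2 : Q.map M.subtype ≤ H := by
      rintro _ ⟨q, hq, rfl⟩
      exact (mem_subgroupOf.mp (hQX hq)).1
    have h3 : Q.map M.subtype ≠ ⊥ := by
      intro h0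
      rw [Subgroup.map_eq_bot_iff_of_injective _ M.subtype_injective] at h0
      exact hQ1 h0
    have h4 : (y : G) ∈ normalizer ((Q.map M.subtype : Subgroup G) : Set G) :=
      Subgroup.le_normalizer_map (H := Q) M.subtype ⟨y, hy, rfl⟩
    rw [mem_subgroupOf]
    exact ⟨hNH _ h1 h2 h3 h4, y.2⟩

theorem card_dvd_of_noSP {H : Subgroup G} (hH : IsStronglyPEmbedded p H) {L : Subgroup G} (hL : p ∣ Nat.card L)
    (hN : NoSP p L) : Nat.card L ∣ Nat.card H := by
  obtain ⟨g, hg⟩ := exists_conj_le_of_noSP hH hL hN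
  have h6 := card_dvd_of_le hg
  rwa [Subgroup.card_map_of_injective (MulAut.conj g).injective] at h6

/-- Elements commuting with an element of order `p` contribute their order to `|H|`. -/
theorem orderOf_dvd_of_commute {H : Subgroup G} (hH : IsStronglyPEmbedded p H) {x y : G} (hx : orderOf x = p)
    (hxy : x * y = y * x) : orderOf y ∣ Nat.card H := by
  have hZ : IsPGroup p ↥(zpowers x) := by
    rw [IsPGroup.iff_card]
    exact ⟨1, by rw [Nat.card_zpowers, hx, pow_one]⟩
  have hne : zpowers x ≠ ⊥ := by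
    rw [Ne, zpowers_eq_bot]
    rintro rfl
    rw [orderOf_one] at hx
    exact hp.out.one_lt.ne hx
  refine dvd_trans ?_ (card_normalizer_dvd hH hZ hne)
  have : y ∈ normalizer ((zpowers x : Subgroup G) : Set G) := by
    rw [mem_normalizer_iff]
    intro h
    constructor
    · rintro ⟨k, rfl⟩
      refine ⟨k, ?_⟩
      have hc : Commute y (x ^ k) := (Commute.zpow_right (hxy.symm : Commute y x) k)
      change x ^ k = y * x ^ k * y⁻¹
      rw [hc.eq, mul_inv_cancel_right]
    · rintro ⟨k, hk⟩
      refine ⟨k, ?_⟩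
      have hc : Commute y (x ^ k) := (Commute.zpow_right (hxy.symm : Commute y x) k)
      have hk' : x ^ k = y * h * y⁻¹ := hk
      change x ^ k = h
      have : h = y⁻¹ * x ^ k * y := by rw [hk']; group
      rw [this, mul_assoc, ← hc.eq, inv_mul_cancel_left]
  exact Subgroup.orderOf_dvd_natCard _ this

end

end Cfsg.Agent.H998.StrP
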