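import Cfsg.Agent.H998.StrP.HSRow
import Cfsg.Agent.H998.StrP.PureRows
import Cfsg.Agent.LeechPack.X100
import Cfsg.Agent.S0398
import Cfsg.Agent.S0399
import Cfsg.Agent.S0400
import Cfsg.Agent.S0402
import Cfsg.Agent.S0403

/-!
# `Co3`, `Co2`, `Co1` have no strongly `5`-embedded subgroup (helper998)

`HS ≤ Co3`, `HS ≤ Co2`, `Co2 ≤ Co1` and the arithmetic criterion `contra`.
-/

set_option autoImplicit false

namespace Cfsg.Agent.H998.StrP.CoRows

open Cfsg Subgroup Cfsg.Agent.H998.StrP

/-- an embedded group without strongly `p`-embedded subgroup -/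
theorem card_dvd_of_hom {A G : Type*} [Group A] [Finite A] [Group G] [Finite G] {p : ℕ} [hp : Fact p.Prime] {H : Subgroup G}
    (hH : IsStronglyPEmbedded p H) {f : A →* G} (hf : Function.Injective f) (hA : NoSP p A) (hd : p ∣ Nat.card A) :
    Nat.card A ∣ Nat.card H := by
  have e : A ≃* f.range := MonoidHom.ofInjective hf
  have h1 : Nat.card f.range = Nat.card A := (Nat.card_congr e.toEquiv).symm
  have h2 := card_dvd_of_noSP hH (L := f.range) (by rw [h1]; exact hd) (hA.congr e.symm)
  rwa [h1] at h2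

theorem sqNorm_leechU : sqNorm (Spor.leechU : GolayPt → ℤ) = 32 := by
  show sqNorm Spor.vecU = 32
  decide +kernel

theorem sqNorm_leechU' : sqNorm (Spor.leechU' : GolayPt → ℤ) = 32 := by
  show sqNorm Spor.vecU' = 32
  decide +kernel

theorem sqNorm_leechV : sqNorm (Spor.leechV : GolayPt → ℤ) = 48 := by
  show sqNorm Spor.vecV = 48
  decide +kernel

theorem map_stab (v : leechLattice) : (MulAction.stabilizer Co0 v).map Co0.subtype =
    Co0 ⊓ MulAction.stabilizer (Equiv.Perm leechLattice) v := by
  ext g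
  constructor
  · rintro ⟨h, hh, rfl⟩
    exact ⟨h.2, hh⟩
  · rintro ⟨h1, h2⟩
    exact ⟨⟨g, h1⟩, h2, rfl⟩

theorem card_stab_eq (v : leechLattice) :
    Nat.card ↥(Co0 ⊓ MulAction.stabilizer (Equiv.Perm leechLattice) v) = Nat.card ↥(MulAction.stabilizer Co0 v) := by
  rw [← map_stab, Subgroup.card_map_of_injective Co0.subtype_injective]

theorem card_Co2 : Nat.card Spor.Co2 = 42305421312000 :=
  (card_stab_eq Spor.leechU).trans (S0402.result Spor.leechU sqNorm_leechU).2

theorem card_Co3 : Nat.card Spor.Co3 = 495766656000 :=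
  (card_stab_eq Spor.leechV).trans (S0403.result Spor.leechV sqNorm_leechV).2

theorem card_HS : Nat.card Spor.HS = 44352000 := by
  rw [← LeechPack.X100.map_G2, Subgroup.card_map_of_injective Co0.subtype_injective]
  exact LeechPack.X100.card_G2

theorem card_Co1 : Nat.card Spor.Co1 = 4157776806543360000 := S0399.result.2

theorem simple_Co2 : IsSimpleGroup Spor.Co2 := by
  have h := (S0402.result Spor.leechU sqNorm_leechU).1
  have e : ↥(MulAction.stabilizer Co0 Spor.leechU) ≃* ↥Spor.Co2 :=
    ((MulAction.stabilizer Co0 Spor.leechU).equivMapOfInjective Co0.subtype Co0.subtype_injective).trans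
      (MulEquiv.subgroupCongr (map_stab Spor.leechU))
  exact (MulEquiv.isSimpleGroup_congr e).1 h

theorem finite_HS : Finite Spor.HS := Nat.finite_of_card_ne_zero (by rw [card_HS]; norm_num)
theorem finite_Co3 : Finite Spor.Co3 := Nat.finite_of_card_ne_zero (by rw [card_Co3]; norm_num)
theorem finite_Co2 : Finite Spor.Co2 := Nat.finite_of_card_ne_zero (by rw [card_Co2]; norm_num)
theorem finite_Co1 : Finite Spor.Co1 := Nat.finite_of_card_ne_zero (by rw [card_Co1]; norm_num)

theorem nosp_hs : NoSP 5 Spor.HS := by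
  have := finite_HS
  exact HSRow.nosp_hs_5 (G := Spor.HS) ⟨MulEquiv.refl _⟩

theorem co3 : NoSP 5 Spor.Co3 := by
  have := fact5
  have := finite_HS
  have := finite_Co3
  intro H hH
  have h1 := card_dvd_of_hom hH (f := inclusion (show Spor.HS ≤ Spor.Co3 from inf_le_left)) (inclusion_injective _) nosp_hs
    (by rw [card_HS]; norm_num)
  rw [card_HS] at h1
  refine contra hH h1 [(2, 1), (3, 5), (23, 1)] (primes_of (by decide)) (a := 3) (b := 0) (by norm_num) ?_ ?_
    (by decide +kernel)
  · rw [card_Co3]; norm_num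
  · rw [card_Co3]; norm_num [val]

theorem co2 : NoSP 5 Spor.Co2 := by
  have := fact5
  have := finite_HS
  have := finite_Co2
  intro H hH
  obtain ⟨g, hg⟩ := S0400.result Spor.leechU' Spor.leechU sqNorm_leechU' sqNorm_leechU
  have hmem : ∀ x : Spor.HS, ((MulAut.conj (g : Equiv.Perm leechLattice)).toMonoidHom.comp Spor.HS.subtype) x ∈ Spor.Co2 := by
    rintro ⟨x, ⟨hx, -⟩, hx2⟩
    refine ⟨Co0.mul_mem (Co0.mul_mem g.2 hx) (Co0.inv_mem g.2), ?_⟩
    have h2 : (g : Equiv.Perm leechLattice) Spor.leechU' = Spor.leechU := hg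
    have h3 : x Spor.leechU' = Spor.leechU' := hx2
    show (g : Equiv.Perm leechLattice) (x ((g : Equiv.Perm leechLattice)⁻¹ Spor.leechU)) = Spor.leechU
    rw [← h2, show (g : Equiv.Perm leechLattice)⁻¹ ((g : Equiv.Perm leechLattice) Spor.leechU') = Spor.leechU' from
      Equiv.symm_apply_apply _ _, h3]
  let f : Spor.HS →* Spor.Co2 := MonoidHom.codRestrict _ _ hmem
  have hf : Function.Injective f := by
    intro x y hxy
    have h1 := congrArg Subtype.val hxy
    exact Subtype.ext ((MulAut.conj (g : Equiv.Perm leechLattice)).injective h1)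
  have h1 := card_dvd_of_hom hH hf nosp_hs (by rw [card_HS]; norm_num)
  rw [card_HS] at h1
  refine contra hH h1 [(2, 9), (3, 4), (23, 1)] (primes_of (by decide)) (a := 3) (b := 0) (by norm_num) ?_ ?_
    (by decide +kernel)
  · rw [card_Co2]; norm_num
  · rw [card_Co2]; norm_num [val]

theorem co1 : NoSP 5 Spor.Co1 := by
  have := fact5
  have := finite_Co2
  have := finite_Co1
  intro H hH
  let f : Spor.Co2 →* Spor.Co1 := (QuotientGroup.mk' (center Co0)).comp (inclusion (show Spor.Co2 ≤ Co0 from inf_le_left))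
  have hf : Function.Injective f := by
    rw [← MonoidHom.ker_eq_bot_iff]
    have := simple_Co2
    rcases f.normal_ker.eq_bot_or_eq_top with h | h
    · exact h
    · exfalso
      have hle : Spor.Co2.subgroupOf Co0 ≤ center Co0 := by
        intro x hx
        have h1 : (⟨(x : Equiv.Perm leechLattice), hx⟩ : Spor.Co2) ∈ f.ker := by rw [h]; exact mem_top _
        exact (QuotientGroup.eq_one_iff _).1 h1
      have h2 : Nat.card (Spor.Co2.subgroupOf Co0) = 42305421312000 := by
        rw [Nat.card_congr (subgroupOfEquivOfLe (show Spor.Co2 ≤ Co0 from inf_le_left)).toEquiv, card_Co2]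
      have h3 := card_dvd_of_le hle
      rw [h2, S0398.result] at h3
      exact absurd (Nat.le_of_dvd (by norm_num) h3) (by norm_num)
  have h1 := card_dvd_of_hom hH hf co2 (by rw [card_Co2]; norm_num)
  rw [card_Co2] at h1
  refine contra hH h1 [(2, 3), (3, 3), (7, 1), (13, 1)] (primes_of (by decide)) (a := 4) (b := 1) (by norm_num) ?_ ?_
    (by decide +kernel)
  · rw [card_Co1]; norm_num
  · rw [card_Co1]; norm_num [val]

theorem nosp_co3_5 {G : Type*} [Group G] [Finite G] (h : Spor.IsoCo3 G) : NoSP 5 G := by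
  obtain ⟨e⟩ := h
  have := finite_Co3
  have := fact5
  exact co3.congr e

theorem nosp_co2_5 {G : Type*} [Group G] [Finite G] (h : Spor.IsoCo2 G) : NoSP 5 G := by
  obtain ⟨e⟩ := h
  have := finite_Co2
  have := fact5
  exact co2.congr e

theorem nosp_co1_5 {G : Type*} [Group G] [Finite G] (h : Spor.IsoCo1 G) : NoSP 5 G := by
  obtain ⟨e⟩ := h
  have := finite_Co1
  have := fact5
  exact co1.congr e

end Cfsg.Agent.H998.StrP.CoRows
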